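import Groth.Prelude.Def_Wider

/-!
# Essential extensions, injective hulls: basic lemmas
-/

universe u v

namespace Groth.Agent.InjHullBasic

open InjHull

variable {R : Type u} [CommRing R]

/-- A linear map that is injective on the range of an essential injection is injective. -/
theorem injective_of_comp_injective {M E : Type v} {I : Type*} [AddCommGroup M] [Module R M]
    [AddCommGroup E] [Module R E] [AddCommGroup I] [Module R I] {f : M →ₗ[R] E}
    (hf : IsEssentialInj f) (α : E →ₗ[R] I) (h : Function.Injective (α ∘ₗ f)) :
    Function.Injective α := by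
  rw [← LinearMap.ker_eq_bot]
  by_contra hne
  obtain ⟨x, hx, hx0⟩ := Submodule.exists_mem_ne_zero_of_ne_bot (hf.essential _ hne)
  obtain ⟨hxk, y, rfl⟩ := Submodule.mem_inf.mp hx
  have : y = 0 := h (by simpa using hxk)
  exact hx0 (by rw [this, map_zero])

/-- Extension of a map along an injection into an injective module. -/
theorem exists_extend {M E I : Type v} [AddCommGroup M] [Module R M] [AddCommGroup E] [Module R E]
    [AddCommGroup I] [Module R I] (hI : Module.Injective R I) {f : M →ₗ[R] E}
    (hf : Function.Injective f) (g : M →ₗ[R] I) : ∃ α : E →ₗ[R] I, α ∘ₗ f = g := by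
  obtain ⟨α, hα⟩ := hI.out f hf g
  exact ⟨α, LinearMap.ext hα⟩

/-- The image of an injective module under an injective map is a direct summand. -/
theorem exists_isCompl_range {E I : Type v} [AddCommGroup E] [Module R E] [AddCommGroup I] [Module R I]
    (hE : Module.Injective R E) {α : E →ₗ[R] I} (hα : Function.Injective α) :
    ∃ I' : Submodule R I, IsCompl (LinearMap.range α) I' := by
  obtain ⟨r, hr⟩ := exists_extend hE hα LinearMap.id
  have hr' : ∀ e, r (α e) = e := fun e => LinearMap.congr_fun hr e
  refine ⟨LinearMap.ker r, ?_, ?_⟩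
  · rw [disjoint_iff_inf_le]
    rintro _ ⟨⟨e, rfl⟩, he⟩
    have : e = 0 := by rw [← hr' e]; exact he
    simp [this]
  · rw [codisjoint_iff_le_sup]
    intro x _
    exact Submodule.mem_sup.mpr ⟨α (r x), ⟨_, rfl⟩, x - α (r x),
      by rw [LinearMap.mem_ker, map_sub, hr', sub_self], by abel⟩

/-- A direct summand of an injective module is injective. -/
theorem injective_of_retraction {E I : Type v} [AddCommGroup E] [Module R E] [AddCommGroup I]
    [Module R I] (hI : Module.Injective R I) (i : E →ₗ[R] I) (p : I →ₗ[R] E)
    (h : ∀ e, p (i e) = e) : Module.Injective R E :=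
  ⟨fun X Y _ _ _ _ f hf g => by
    obtain ⟨α, hα⟩ := exists_extend hI hf (i ∘ₗ g)
    exact ⟨p ∘ₗ α, fun x => by
      simp [show α (f x) = i (g x) from LinearMap.congr_fun hα x, h]⟩⟩

end Groth.Agent.InjHullBasic
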